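import Groth.Agent.Lib.UnitProd.Split
import Groth.Prelude.Def_GmPts
import Groth.Agent.Lib.GrpSchField.Field
import Mathlib.AlgebraicGeometry.AffineScheme

/-!
# Values of sections at rational points, and Rosenlicht's lemma on units of connected groups
-/

universe u

open CategoryTheory CategoryTheory.Limits MonoidalCategory CartesianMonoidalCategory MonObj AlgebraicGeometry
open TopologicalSpace

namespace GrothLib.LinUniq27

variable {k : Type u} [Field k] {P Q : Scheme.{u}}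

theorem topLe {T : Scheme.{u}} {s : T ⟶ P} {U : P.Opens} (h : ∀ z, s.base z ∈ U) : (⊤ : T.Opens) ≤ s ⁻¹ᵁ U :=
  fun z _ => h z

/-- The value of a section at a rational point of its domain. -/
noncomputable def vl (s : Spec (CommRingCat.of k) ⟶ P) (U : P.Opens) (h : ∀ z, s.base z ∈ U) : Γ(P, U) →+* k :=
  (s.appLE U ⊤ (topLe h) ≫ (Scheme.ΓSpecIso (CommRingCat.of k)).hom).hom

theorem vl_res (s : Spec (CommRingCat.of k) ⟶ P) {U W : P.Opens} (e : W ≤ U) (hW : ∀ z, s.base z ∈ W) (f : Γ(P, U)) :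
    vl s W hW (P.presheaf.map (homOfLE e).op f) = vl s U (fun z => e (hW z)) f := by
  show (Scheme.ΓSpecIso (CommRingCat.of k)).hom ((P.presheaf.map (homOfLE e).op ≫ s.appLE W ⊤ (topLe hW)) f) = _
  rw [Scheme.Hom.map_appLE]
  rfl

theorem vl_congr {s s' : Spec (CommRingCat.of k) ⟶ P} (e : s = s') {U : P.Opens} (h : ∀ z, s.base z ∈ U)
    (h' : ∀ z, s'.base z ∈ U) (f : Γ(P, U)) : vl s U h f = vl s' U h' f := by
  subst e; rfl

theorem vl_appLE (s : Spec (CommRingCat.of k) ⟶ P) (a : P ⟶ Q) {U : Q.Opens} {W : P.Opens} (e : W ≤ a ⁻¹ᵁ U)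
    (hW : ∀ z, s.base z ∈ W) (f : Γ(Q, U)) :
    vl s W hW (a.appLE U W e f) = vl (s ≫ a) U (fun z => e (hW z)) f := by
  show (Scheme.ΓSpecIso (CommRingCat.of k)).hom ((a.appLE U W e ≫ s.appLE W ⊤ (topLe hW)) f) = _
  rw [Scheme.Hom.appLE_comp_appLE]
  rfl

theorem vl_app (s : Spec (CommRingCat.of k) ⟶ P) (a : P ⟶ Q) {U : Q.Opens}
    (hW : ∀ z, s.base z ∈ a ⁻¹ᵁ U) (f : Γ(Q, U)) :
    vl s (a ⁻¹ᵁ U) hW (a.app U f) = vl (s ≫ a) U hW f := by
  rw [Scheme.Hom.app_eq_appLE, vl_appLE]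

theorem mem_basicOpen_iff (s : Spec (CommRingCat.of k) ⟶ P) {U : P.Opens} (h : ∀ z, s.base z ∈ U) (f : Γ(P, U)) :
    s.base (IsLocalRing.closedPoint k) ∈ P.basicOpen f ↔ vl s U h f ≠ 0 := by
  have hb := Scheme.basicOpen_appLE s ⊤ U (topLe h) f
  constructor
  · intro hm h0
    have h0' : s.appLE U ⊤ (topLe h) f = 0 :=
      (ConcreteCategory.bijective_of_isIso (Scheme.ΓSpecIso (CommRingCat.of k)).hom).1 (by
        rw [map_zero]; exact h0)
    rw [h0', Scheme.basicOpen_zero] at hb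
    exact hb.ge ⟨trivial, hm⟩
  · intro hne
    have hu : IsUnit (s.appLE U ⊤ (topLe h) f) := by
      have := (Ne.isUnit hne).map (Scheme.ΓSpecIso (CommRingCat.of k)).inv.hom
      rw [show vl s U h f = (Scheme.ΓSpecIso (CommRingCat.of k)).hom (s.appLE U ⊤ (topLe h) f) from rfl] at this
      simpa using this
    rw [Scheme.basicOpen_of_isUnit _ hu] at hb
    exact (hb.le (show IsLocalRing.closedPoint k ∈ (⊤ : (Spec (CommRingCat.of k)).Opens) from trivial)).2

theorem ext_affine {W : P.Opens} (hW : IsAffineOpen W) {s s' : Spec (CommRingCat.of k) ⟶ P}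
    (h : ∀ z, s.base z ∈ W) (h' : ∀ z, s'.base z ∈ W) (e : ∀ f, vl s W h f = vl s' W h' f) : s = s' := by
  have e1 : s.appLE W ⊤ (topLe h) = s'.appLE W ⊤ (topLe h') :=
    CommRingCat.hom_ext (RingHom.ext fun f =>
      (ConcreteCategory.bijective_of_isIso (Scheme.ΓSpecIso (CommRingCat.of k)).hom).1 (e f))
  have h1 := hW.SpecMap_appLE_fromSpec s (isAffineOpen_top _) (topLe h)
  have h2 := hW.SpecMap_appLE_fromSpec s' (isAffineOpen_top _) (topLe h')
  rw [e1, h2] at h1
  haveI : IsIso (isAffineOpen_top (Spec (CommRingCat.of k))).fromSpec := by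
    rw [IsAffineOpen.fromSpec_top]; infer_instance
  exact ((cancel_epi _).1 h1).symm

theorem exists_point_of_ringHom {W : P.Opens} (hW : IsAffineOpen W) (θ : Γ(P, W) →+* k) :
    ∃ (s : Spec (CommRingCat.of k) ⟶ P) (h : ∀ z, s.base z ∈ W), ∀ f, vl s W h f = θ f := by
  obtain ⟨θ, rfl⟩ : ∃ θ' : Γ(P, W) ⟶ CommRingCat.of k, θ'.hom = θ := ⟨CommRingCat.ofHom θ, rfl⟩
  let s := Spec.map θ ≫ hW.fromSpec
  have h : ∀ z, s.base z ∈ W := fun z => hW.range_fromSpec.le ⟨_, rfl⟩
  refine ⟨s, h, fun f => ?_⟩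
  have e : s.appLE W ⊤ (topLe h) = θ ≫ (Scheme.ΓSpecIso (CommRingCat.of k)).inv := by
    show (Spec.map θ ≫ hW.fromSpec).appLE W ⊤ _ = _
    rw [← Scheme.Hom.appLE_comp_appLE (Spec.map θ) hW.fromSpec W ⊤ ⊤
      hW.fromSpec_preimage_self.ge (by simp)]
    simp [Scheme.Hom.appLE, hW.fromSpec_app_self, Scheme.ΓSpecIso_inv_naturality]
    rw [← Functor.map_comp_assoc, Subsingleton.elim (_ ≫ _) (𝟙 _), CategoryTheory.Functor.map_id, Category.id_comp]

  simp [vl, e]

variable [IsAlgClosed k] (p : P ⟶ Spec (CommRingCat.of k)) [LocallyOfFiniteType p]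

theorem exists_point_in {Z : Set P} (hZ : IsLocallyClosed Z) (hne : Z.Nonempty) :
    ∃ s : Spec (CommRingCat.of k) ⟶ P, s ≫ p = 𝟙 _ ∧ ∀ z, s.base z ∈ Z := by
  haveI : JacobsonSpace P := LocallyOfFiniteType.jacobsonSpace p
  obtain ⟨x, hxZ, hx⟩ := nonempty_inter_closedPoints hne hZ
  exact ⟨pointOfClosedPoint p x hx, pointOfClosedPoint_comp p x hx, fun z => by
    rw [pointOfClosedPoint_apply]; exact hxZ⟩

theorem eq_of_forall_vl [IsReduced P] {U : P.Opens} {f g : Γ(P, U)}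
    (h : ∀ (s : Spec (CommRingCat.of k) ⟶ P), s ≫ p = 𝟙 _ → ∀ hs : ∀ z, s.base z ∈ U, vl s U hs f = vl s U hs g) :
    f = g := by
  rw [← sub_eq_zero, ← AlgebraicGeometry.basicOpen_eq_bot_iff]
  by_contra hne
  obtain ⟨s, hs, hsD⟩ := exists_point_in p (P.basicOpen (f - g)).isOpen.isLocallyClosed
    ((Opens.ne_bot_iff_nonempty _).1 hne)
  have hsU : ∀ z, s.base z ∈ U := fun z => Scheme.basicOpen_le _ _ (hsD z)
  exact (mem_basicOpen_iff s hsU _).1 (hsD _) (by rw [map_sub, h s hs hsU, sub_self])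

theorem isUnit_of_forall_vl {U : P.Opens} {f : Γ(P, U)}
    (h : ∀ (s : Spec (CommRingCat.of k) ⟶ P), s ≫ p = 𝟙 _ → ∀ hs : ∀ z, s.base z ∈ U, vl s U hs f ≠ 0) :
    IsUnit f := by
  have hle : U ≤ P.basicOpen f := fun x hx => by
    by_contra hn
    obtain ⟨s, hs, hsZ⟩ := exists_point_in p (Z := (U : Set P) ∩ (P.basicOpen f : Set P)ᶜ)
      (U.isOpen.isLocallyClosed.inter (P.basicOpen f).isOpen.isClosed_compl.isLocallyClosed) ⟨x, hx, hn⟩
    exact (hsZ _).2 ((mem_basicOpen_iff s (fun z => (hsZ z).1) f).2 (h s hs fun z => (hsZ z).1))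
  exact P.toRingedSpace.isUnit_of_isUnit_germ U f fun x hx => (Scheme.mem_basicOpen _ f x hx).1 (hle hx)

/-- A unit with value one at the identity on a connected group is a character. -/
theorem unit_eq_one {G : Over (Spec (CommRingCat.of k))} [GrpObj G] [LocallyOfFiniteType G.hom]
    [QuasiCompact G.hom] [IsReduced G.left] [ConnectedSpace G.left]
    (hχ : ∀ (χ : G ⟶ Red.Gm (Spec (CommRingCat.of k))) [IsMonHom χ], χ = 1)
    (f : Γ(G.left, ⊤)) (hf : IsUnit f)
    (h1 : GrothLib.UnitProd.value f (1 : 𝟙_ (Over (Spec (CommRingCat.of k))) ⟶ G).left = 1) : f = 1 := by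
  open GrothLib.UnitProd in
  let o := 𝟙_ (Over (Spec (CommRingCat.of k)))
  haveI : GeometricallyReduced G.hom := geometricallyReduced_of_isReduced G.hom
  haveI : CompactSpace G.left := QuasiCompact.compactSpace_of_compactSpace G.hom
  haveI : Flat G.hom := GrothLib.DiagGrp.flat_of_field _
  haveI : IsLocallyNoetherian G.left := LocallyOfFiniteType.isLocallyNoetherian G.hom
  haveI : IsReduced (G ⊗ G).left := inferInstanceAs (IsReduced (pullback G.hom G.hom))
  haveI : LocallyOfFiniteType (G ⊗ G).hom := by dsimp; infer_instance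
  obtain ⟨a, b, -, -, hab⟩ := exists_units_mul G G (μ[G].left.appTop f) (hf.map μ[G].left.appTop.hom)
  have hev : ∀ g h : o ⟶ G, value f (g * h).left = value a g.left * value b h.left := fun g h => by
    have := congrArg (fun F => value F (lift g h).left) hab
    simp only [value_mul, value_comp, ← Over.comp_left, lift_fst, lift_snd] at this
    rw [Hom.mul_def]
    exact this
  have hone : value a (1 : o ⟶ G).left * value b (1 : o ⟶ G).left = 1 := by
    rw [← hev, _root_.one_mul]; exact h1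
  have hmul : ∀ g h : o ⟶ G, value f (g * h).left = value f g.left * value f h.left := fun g h => by
    have e1 := hev g 1
    have e2 := hev 1 h
    rw [_root_.mul_one] at e1
    rw [_root_.one_mul] at e2
    rw [hev, e1, e2]
    linear_combination (value a g.left * value b h.left) * hone.symm
  have hfun : μ[G].left.appTop f = (fst G G).left.appTop f * (snd G G).left.appTop f := by
    refine eq_of_forall_value (G ⊗ G).hom fun z => ?_
    let t : o ⟶ G ⊗ G := Over.homMk z.1 z.2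
    have ht : lift (t ≫ fst G G) (t ≫ snd G G) = t := by
      apply CartesianMonoidalCategory.hom_ext <;> simp
    rw [value_mul, value_comp, value_comp, value_comp]
    show value f (t ≫ μ[G]).left = value f (t ≫ fst G G).left * value f (t ≫ snd G G).left
    rw [← hmul, Hom.mul_def, ht]
  let χ : G ⟶ Red.Gm (Spec (CommRingCat.of k)) := GmPts.ptOfUnit hf.unit
  have hgm : ∀ {T : Over (Spec (CommRingCat.of k))} (t : T ⟶ G), Red.gmFn (t ≫ χ) = t.left.appTop f := fun t => by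
    rw [GmPts.gmFn_comp, GmPts.gmFn_ptOfUnit]
    rfl
  haveI : IsMonHom χ := GrothLib.GrpSchField.isMonHom_of_mul _ (GmPts.gmFn_injective (by
    show Red.gmFn (μ[G] ≫ χ) = Red.gmFn ((χ ⊗ₘ χ) ≫ μ[Red.Gm (Spec (CommRingCat.of k))])
    rw [show ((χ ⊗ₘ χ) ≫ μ[Red.Gm (Spec (CommRingCat.of k))]) = (fst G G ≫ χ) * (snd G G ≫ χ) by
      rw [Hom.mul_def, tensorHom_def]
      congr 1
      apply CartesianMonoidalCategory.hom_ext <;> simp, GmPts.gmFn_mul, hgm, hgm, hgm, hfun]))
  have := congrArg Red.gmFn (hχ χ)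
  rwa [GmPts.gmFn_ptOfUnit, GmPts.gmFn_one] at this

end GrothLib.LinUniq27
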