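import Groth.Agent.Lib.LinUniq27.Values
import Groth.Agent.Lib.DiagGrp.ActionTrivial
import Groth.Agent.Lib.GITQuot27.Univ
import Groth.Prelude.Def_GLinSh
import Mathlib.RingTheory.FiniteType
import Mathlib.RingTheory.Polynomial.Nilpotent

/-!
# Uniqueness of linearisations for groups without characters
-/

universe u

open CategoryTheory CategoryTheory.Limits MonoidalCategory CartesianMonoidalCategory MonObj AlgebraicGeometry
open TopologicalSpace

namespace GrothLib.LinUniq27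

section Bundle

variable {S : Scheme.{u}} {X V : Over S} {π : V ⟶ X} (A : GLinSh.LinAtlas π)

include A in
theorem locallyOfFiniteType_bundle : LocallyOfFiniteType π.left := by
  haveI := A.affine
  have hex : ∀ x : X.left, ∃ W : X.left.affineOpens, x ∈ W.1 ∧ RingHom.FiniteType (π.left.app W.1).hom := by
    intro x
    obtain ⟨U, hxU, y, hy⟩ := A.cover x
    obtain ⟨_, ⟨W, hW, rfl⟩, hxW, hWU⟩ := X.left.isBasis_affineOpens.exists_subset_of_mem_open hxU U.isOpen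
    refine ⟨⟨W, hW⟩, hxW, ?_⟩
    letI := (π.left.app W).hom.toAlgebra
    exact Algebra.FiniteType.of_surjective (Polynomial.aeval (GLinSh.res π hWU y))
      (A.coord U y hy W hW hWU).2
  choose W hxW hft using hex
  refine IsZariskiLocalAtTarget.of_iSup_eq_top (fun x => (W x).1)
    (top_le_iff.1 fun x _ => Opens.mem_iSup.2 ⟨x, hxW x⟩) fun x => ?_
  haveI : IsAffine (W x).1.toScheme := (W x).2
  haveI : IsAffine (π.left ⁻¹ᵁ (W x).1).toScheme := (W x).2.preimage π.left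
  rw [HasRingHomProperty.iff_of_isAffine (P := @LocallyOfFiniteType)]
  have e : (π.left ∣_ (W x).1).appTop =
      (W x).1.topIso.hom ≫ π.left.app (W x).1 ≫ (π.left ⁻¹ᵁ (W x).1).topIso.inv := by
    rw [← GrothLib.GITQuot27.topIso_inv_morphismRestrict_appTop, Iso.hom_inv_id_assoc]
  rw [e, CommRingCat.hom_comp, CommRingCat.hom_comp]
  exact ((RingHom.FiniteType.of_surjective _ (ConcreteCategory.bijective_of_isIso
    (π.left ⁻¹ᵁ (W x).1).topIso.inv).2).comp (hft x)).comp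
    (RingHom.FiniteType.of_surjective _ (ConcreteCategory.bijective_of_isIso (W x).1.topIso.hom).2)

include A in
theorem isReduced_bundle [IsReduced X.left] : IsReduced V.left := by
  haveI := A.affine
  have hex : ∀ x : X.left, ∃ W : X.left.affineOpens, x ∈ W.1 ∧ _root_.IsReduced Γ(V.left, π.left ⁻¹ᵁ W.1) := by
    intro x
    obtain ⟨U, hxU, y, hy⟩ := A.cover x
    obtain ⟨_, ⟨W, hW, rfl⟩, hxW, hWU⟩ := X.left.isBasis_affineOpens.exists_subset_of_mem_open hxU U.isOpen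
    refine ⟨⟨W, hW⟩, hxW, ?_⟩
    haveI : _root_.IsReduced Γ(X.left, W) := inferInstance
    haveI : _root_.IsReduced (Polynomial Γ(X.left, W)) := ⟨fun P hP => Polynomial.ext fun n => by
      rw [Polynomial.coeff_zero]; exact (Polynomial.isNilpotent_iff.1 hP n).eq_zero⟩
    let e := RingEquiv.ofBijective _ (A.coord U y hy W hW hWU)
    exact isReduced_of_injective e.symm.toRingHom e.symm.injective
  choose W hxW hr using hex
  have hcover : IsOpenCover fun x => π.left ⁻¹ᵁ (W x).1 :=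
    top_le_iff.1 fun v _ => Opens.mem_iSup.2 ⟨π.left v, hxW (π.left v)⟩
  let 𝒰 := V.left.openCoverOfIsOpenCover _ hcover
  have : ∀ i, IsReduced (𝒰.X i) := fun x => by
    haveI := hr x
    haveI : IsReduced (Spec Γ(V.left, π.left ⁻¹ᵁ (W x).1)) := inferInstance
    exact isReduced_of_isOpenImmersion ((W x).2.preimage π.left).isoSpec.hom
  exact IsReduced.of_openCover V.left 𝒰

end Bundle

variable {k : Type u} [Field k] {X V : Over (Spec (CommRingCat.of k))} {π : V ⟶ X}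

local notation "o" => 𝟙_ (Over (Spec (CommRingCat.of k)))

/-- A value over the base. -/
theorem comp_mem {U : X.left.Opens} {p : o ⟶ V} {x : o ⟶ X} (hp : p ≫ π = x) (hx : ∀ z, x.left.base z ∈ U) :
    ∀ z, p.left.base z ∈ π.left ⁻¹ᵁ U := fun z => by
  subst hp; exact hx z

theorem eq_of_coord (A : GLinSh.LinAtlas π) {U : X.left.Opens} {y : Γ(V.left, π.left ⁻¹ᵁ U)} (hy : y ∈ A.chart U)
    {p q : o ⟶ V} {x : o ⟶ X} (hp : p ≫ π = x) (hq : q ≫ π = x) (hx : ∀ z, x.left.base z ∈ U)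
    (e : vl p.left _ (comp_mem hp hx) y = vl q.left _ (comp_mem hq hx) y) : p = q := by
  haveI := A.affine
  obtain ⟨_, ⟨W, hW, rfl⟩, hxW, hWU⟩ := X.left.isBasis_affineOpens.exists_subset_of_mem_open
    (hx (IsLocalRing.closedPoint k)) U.isOpen
  have hxW' : ∀ z, x.left.base z ∈ W := fun z => by
    rw [Subsingleton.elim (α := Spec (CommRingCat.of k)) z (IsLocalRing.closedPoint k)]; exact hxW
  refine Over.OverMorphism.ext (ext_affine (hW.preimage π.left) (comp_mem hp hxW') (comp_mem hq hxW') fun f => ?_)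
  obtain ⟨P, rfl⟩ := (A.coord U y hy W hW hWU).2 f
  have key : ∀ (r : o ⟶ V) (hr : r ≫ π = x),
      vl r.left _ (comp_mem hr hxW') (Polynomial.eval₂RingHom (π.left.app W).hom (GLinSh.res π hWU y) P) =
        Polynomial.eval₂ (vl x.left W hxW') (vl r.left _ (comp_mem hr hx) y) P := by
    intro r hr
    rw [Polynomial.coe_eval₂RingHom, Polynomial.hom_eval₂]
    congr 1
    · refine RingHom.ext fun a => ?_
      show vl r.left _ (comp_mem hr hxW') (π.left.app W a) = _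
      rw [vl_app]
      exact vl_congr (congrArg CommaMorphism.left hr) _ _ a
    · exact vl_res r.left _ _ y
  rw [key p hp, key q hq, e]

theorem exists_coord_eq (A : GLinSh.LinAtlas π) {U : X.left.Opens} {y : Γ(V.left, π.left ⁻¹ᵁ U)} (hy : y ∈ A.chart U)
    (x : o ⟶ X) (hx : ∀ z, x.left.base z ∈ U) (c : k) :
    ∃ (p : o ⟶ V) (hp : p ≫ π = x), vl p.left _ (comp_mem hp hx) y = c := by
  haveI := A.affine
  obtain ⟨_, ⟨W, hW, rfl⟩, hxW, hWU⟩ := X.left.isBasis_affineOpens.exists_subset_of_mem_open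
    (hx (IsLocalRing.closedPoint k)) U.isOpen
  have hxW' : ∀ z, x.left.base z ∈ W := fun z => by
    rw [Subsingleton.elim (α := Spec (CommRingCat.of k)) z (IsLocalRing.closedPoint k)]; exact hxW
  let e := RingEquiv.ofBijective _ (A.coord U y hy W hW hWU)
  obtain ⟨s, hs, hθ⟩ := exists_point_of_ringHom (hW.preimage π.left)
    ((Polynomial.eval₂RingHom (vl x.left W hxW') c).comp e.symm.toRingHom)
  have hover : s ≫ π.left = x.left := by
    refine ext_affine hW (fun z => hs z) hxW' fun a => ?_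
    rw [← vl_app s π.left hs, hθ]
    have : e.symm (π.left.app W a) = Polynomial.C a := by
      rw [RingEquiv.symm_apply_eq]
      simp [e]
    simp [this]
  let p : o ⟶ V := Over.homMk s (by rw [← Over.w π, reassoc_of% hover, Over.w x])
  have hp : p ≫ π = x := Over.OverMorphism.ext hover
  refine ⟨p, hp, ?_⟩
  rw [← vl_res p.left (π.left.preimage_mono hWU) hs y]
  refine (hθ _).trans ?_
  have : e.symm (GLinSh.res π hWU y) = Polynomial.X := by
    rw [RingEquiv.symm_apply_eq]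
    simp [e]
  simp [this]

/-- Change of coordinate. -/
theorem exists_change (A : GLinSh.LinAtlas π) {U U' : X.left.Opens} {y : Γ(V.left, π.left ⁻¹ᵁ U)}
    {y' : Γ(V.left, π.left ⁻¹ᵁ U')} (hy : y ∈ A.chart U) (hy' : y' ∈ A.chart U')
    (x : o ⟶ X) (hx : ∀ z, x.left.base z ∈ U) (hx' : ∀ z, x.left.base z ∈ U') :
    ∃ e : k, ∀ (p : o ⟶ V) (hp : p ≫ π = x),
      vl p.left _ (comp_mem hp hx') y' = e * vl p.left _ (comp_mem hp hx) y := by
  obtain ⟨c, -, hc⟩ := A.linear U U' y y' hy hy'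
  refine ⟨vl x.left (U ⊓ U') (fun z => ⟨hx z, hx' z⟩) c, fun p hp => ?_⟩
  have h := congrArg (vl p.left _ (comp_mem hp (U := U ⊓ U') fun z => ⟨hx z, hx' z⟩)) hc
  rw [map_mul, vl_res, vl_res, vl_app] at h
  rw [h]
  congr 1
  exact vl_congr (congrArg CommaMorphism.left hp) _ _ c

variable {G : Over (Spec (CommRingCat.of k))} [GrpObj G] (a : AlgGrp.Action G X)

/-- The value of a lifted action in coordinates. -/
theorem exists_factor (A : GLinSh.LinAtlas π) {U U' : X.left.Opens} {y : Γ(V.left, π.left ⁻¹ᵁ U)}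
    {y' : Γ(V.left, π.left ⁻¹ᵁ U')} (hy : y ∈ A.chart U) (hy' : y' ∈ A.chart U')
    (Φ : AlgGrp.Action G V) (hπ : Φ.act ≫ π = (G ◁ π) ≫ a.act) (hl : GLinSh.IsLinearLift a π Φ A.chart hπ) :
    ∃ c : Γ((G ⊗ X).left, a.act.left ⁻¹ᵁ U' ⊓ (snd G X).left ⁻¹ᵁ U),
      ∀ (g : o ⟶ G) (x : o ⟶ X) (v : o ⟶ V) (hv : v ≫ π = x) (hw : (lift g v ≫ Φ.act) ≫ π = lift g x ≫ a.act)
        (hx : ∀ z, x.left.base z ∈ U) (hx' : ∀ z, (lift g x ≫ a.act).left.base z ∈ U')
        (hgx : ∀ z, (lift g x).left.base z ∈ a.act.left ⁻¹ᵁ U' ⊓ (snd G X).left ⁻¹ᵁ U),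
        vl (lift g v ≫ Φ.act).left _ (comp_mem hw hx') y' =
          vl (lift g x).left _ hgx c * vl v.left _ (comp_mem hv hx) y := by
  obtain ⟨c, hc⟩ := hl U U' y y' hy hy'
  refine ⟨c, fun g x v hv hw hx hx' hgx => ?_⟩
  have e1 : (lift g v).left ≫ (G ◁ π).left = (lift g x).left := by
    rw [← Over.comp_left, lift_whiskerLeft, hv]
  have hpl : ∀ z, (lift g v).left.base z ∈ GLinSh.liftOpen a π U U' := fun z => by
    show ((lift g v).left ≫ (G ◁ π).left).base z ∈ a.act.left ⁻¹ᵁ U' ⊓ (snd G X).left ⁻¹ᵁ U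
    rw [e1]
    exact hgx z
  have h := congrArg (vl (lift g v).left _ hpl) hc
  rw [map_mul, vl_appLE, vl_appLE, vl_appLE] at h
  refine (vl_congr (by rw [Over.comp_left]) _ _ y').trans (h.trans ?_)
  congr 1
  · exact vl_congr e1 _ _ c
  · exact vl_congr (by rw [← Over.comp_left, lift_snd]) _ _ y

variable [IsAlgClosed k]

/-- Two linearisations agree on rational points. -/
theorem lift_eq_on_points [LocallyOfFiniteType G.hom] [QuasiCompact G.hom] [IsReduced G.left] [ConnectedSpace G.left]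
    (hχ : ∀ (χ : G ⟶ Red.Gm (Spec (CommRingCat.of k))) [IsMonHom χ], χ = 1)
    (A : GLinSh.LinAtlas π) (Φ₁ Φ₂ : AlgGrp.Action G V) (h₁ : Φ₁.act ≫ π = (G ◁ π) ≫ a.act)
    (h₂ : Φ₂.act ≫ π = (G ◁ π) ≫ a.act) (hl₁ : GLinSh.IsLinearLift a π Φ₁ A.chart h₁)
    (hl₂ : GLinSh.IsLinearLift a π Φ₂ A.chart h₂) (g₀ : o ⟶ G) (v₀ : o ⟶ V) :
    lift g₀ v₀ ≫ Φ₁.act = lift g₀ v₀ ≫ Φ₂.act := by
  obtain ⟨x, hv₀⟩ : ∃ x, v₀ ≫ π = x := ⟨_, rfl⟩
  obtain ⟨U, hxU, y, hy⟩ := A.cover (x.left.base (IsLocalRing.closedPoint k))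
  have hx : ∀ z, x.left.base z ∈ U := fun z => by
    rw [Subsingleton.elim (α := Spec (CommRingCat.of k)) z (IsLocalRing.closedPoint k)]; exact hxU
  obtain ⟨v₁, hv₁, hy₁⟩ := exists_coord_eq A hy x hx 1
  have hover : ∀ (Φ : AlgGrp.Action G V), Φ.act ≫ π = (G ◁ π) ≫ a.act → ∀ (g : o ⟶ G) (v : o ⟶ V), v ≫ π = x →
      (lift g v ≫ Φ.act) ≫ π = lift g x ≫ a.act := fun Φ h g v hv => by
    rw [Category.assoc, h, lift_whiskerLeft_assoc, hv]
  let P₁ := fun g : o ⟶ G => lift g v₁ ≫ Φ₁.act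
  let P₂ := fun g : o ⟶ G => lift g v₁ ≫ Φ₂.act
  have hP₁ : ∀ g, P₁ g ≫ π = lift g x ≫ a.act := fun g => hover Φ₁ h₁ g v₁ hv₁
  have hP₂ : ∀ g, P₂ g ≫ π = lift g x ≫ a.act := fun g => hover Φ₂ h₂ g v₁ hv₁
  have hgx : ∀ {U' : X.left.Opens} {g : o ⟶ G}, (∀ z, (lift g x ≫ a.act).left.base z ∈ U') →
      ∀ z, (lift g x).left.base z ∈ a.act.left ⁻¹ᵁ U' ⊓ (snd G X).left ⁻¹ᵁ U := by
    intro U' g h z
    refine ⟨h z, ?_⟩
    show ((lift g x).left ≫ (snd G X).left).base z ∈ U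
    rw [← Over.comp_left, lift_snd]
    exact hx z
  have hne : ∀ (g : o ⟶ G) {U' : X.left.Opens} {y' : Γ(V.left, π.left ⁻¹ᵁ U')}, y' ∈ A.chart U' →
      ∀ hx' : ∀ z, (lift g x ≫ a.act).left.base z ∈ U', vl (P₁ g).left _ (comp_mem (hP₁ g) hx') y' ≠ 0 := by
    intro g U' y' hy' hx' h0
    obtain ⟨w, hw, hyw⟩ := exists_coord_eq A hy x hx 0
    obtain ⟨c, hc⟩ := exists_factor a A hy hy' Φ₁ h₁ hl₁
    have e1 := hc g x v₁ hv₁ (hP₁ g) hx hx' (hgx hx')
    have e2 := hc g x w hw (hover Φ₁ h₁ g w hw) hx hx' (hgx hx')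
    rw [hyw, mul_zero] at e2
    have heq := eq_of_coord A hy' (hP₁ g) (hover Φ₁ h₁ g w hw) hx' (h0.trans e2.symm)
    have := congrArg (fun v => lift g⁻¹ v ≫ Φ₁.act) heq
    simp only [P₁, ← GrothLib.DiagGrp.act_mul, inv_mul_cancel, GrothLib.DiagGrp.act_one] at this
    subst this
    rw [hy₁] at hyw
    exact one_ne_zero hyw
  let R : (o ⟶ G) → k → Prop := fun g l =>
    ∀ (U' : X.left.Opens) (y' : Γ(V.left, π.left ⁻¹ᵁ U')), y' ∈ A.chart U' →
      ∀ hx' : ∀ z, (lift g x ≫ a.act).left.base z ∈ U',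
        vl (P₂ g).left _ (comp_mem (hP₂ g) hx') y' = l * vl (P₁ g).left _ (comp_mem (hP₁ g) hx') y'
  have huniq : ∀ g l l', R g l → R g l' → l = l' := fun g l l' h h' => by
    obtain ⟨U', hU', y', hy'⟩ := A.cover ((lift g x ≫ a.act).left.base (IsLocalRing.closedPoint k))
    have hx' : ∀ z, (lift g x ≫ a.act).left.base z ∈ U' := fun z => by
      rw [Subsingleton.elim (α := Spec (CommRingCat.of k)) z (IsLocalRing.closedPoint k)]; exact hU'
    exact mul_right_cancel₀ (hne g hy' hx') ((h U' y' hy' hx').symm.trans (h' U' y' hy' hx'))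
  -- the local ratios
  let I := Σ' (U' : X.left.Opens) (y' : Γ(V.left, π.left ⁻¹ᵁ U')), y' ∈ A.chart U'
  let j : G ⟶ G ⊗ X := lift (𝟙 G) (toUnit G ≫ x)
  let O : I → G.left.Opens := fun i => (j ≫ a.act).left ⁻¹ᵁ i.1
  have hj : ∀ g : o ⟶ G, g ≫ j = lift g x := fun g => by
    rw [comp_lift, Category.comp_id, ← Category.assoc, comp_toUnit, toUnit_unique (toUnit o) (𝟙 o), Category.id_comp]
  have hO : ∀ (i : I) (g : o ⟶ G), (∀ z, g.left.base z ∈ O i) → ∀ z, (lift g x ≫ a.act).left.base z ∈ i.1 :=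
    fun i g hg z => by
      rw [← hj g, Category.assoc]
      exact hg z
  have hloc : ∀ i : I, ∃ f : Γ(G.left, O i),
      ∀ (g : o ⟶ G) (hg : ∀ z, g.left.base z ∈ O i), R g (vl g.left _ hg f) := by
    rintro ⟨U', y', hy'⟩
    obtain ⟨c₁, hc₁⟩ := exists_factor a A hy hy' Φ₁ h₁ hl₁
    obtain ⟨c₂, hc₂⟩ := exists_factor a A hy hy' Φ₂ h₂ hl₂
    have hle : O ⟨U', y', hy'⟩ ≤ j.left ⁻¹ᵁ (a.act.left ⁻¹ᵁ U' ⊓ (snd G X).left ⁻¹ᵁ U) := fun z hz => by
      refine ⟨hz, ?_⟩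
      show ((j ≫ snd G X).left).base z ∈ U
      rw [lift_snd, Over.comp_left, Scheme.Hom.comp_apply]
      exact hx _
    have hval : ∀ (g : o ⟶ G) (hg : ∀ z, g.left.base z ∈ O ⟨U', y', hy'⟩) c,
        vl g.left _ hg (j.left.appLE _ _ hle c) = vl (lift g x).left _ (hgx (hO _ g hg)) c := fun g hg c => by
      rw [vl_appLE]
      exact vl_congr (congrArg CommaMorphism.left (hj g)) _ _ c
    have hu₁ : IsUnit (j.left.appLE _ _ hle c₁) := isUnit_of_forall_vl G.hom fun s hs hsO => by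
      let g : o ⟶ G := Over.homMk s hs
      intro h0
      have h0 : vl (lift g x).left _ (hgx (hO _ g hsO)) c₁ = 0 := (hval g hsO c₁).symm.trans h0
      refine hne g hy' (hO _ g hsO) ?_
      rw [hc₁ g x v₁ hv₁ (hP₁ g) hx (hO _ g hsO) (hgx (hO _ g hsO)), h0, zero_mul]
    refine ⟨j.left.appLE _ _ hle c₂ * ↑hu₁.unit⁻¹, fun g hg U'' y'' hy'' hx'' => ?_⟩
    have hx' := hO _ g hg
    obtain ⟨ε, hε⟩ := exists_change A hy' hy'' (lift g x ≫ a.act) hx' hx''
    rw [hε _ (hP₂ g), hε _ (hP₁ g), hc₁ g x v₁ hv₁ (hP₁ g) hx hx' (hgx hx'),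
      hc₂ g x v₁ hv₁ (hP₂ g) hx hx' (hgx hx'), hy₁, _root_.mul_one, _root_.mul_one, map_mul, hval g hg c₂]
    have hinv : vl g.left _ hg (↑hu₁.unit⁻¹ : Γ(G.left, O ⟨U', y', hy'⟩)) * vl (lift g x).left _ (hgx hx') c₁ = 1 := by
      rw [← hval g hg c₁, ← map_mul, hu₁.val_inv_mul, map_one]
    linear_combination (-ε * vl (lift g x).left _ (hgx hx') c₂) * hinv
  choose f hf using hloc
  have hcover : (⊤ : G.left.Opens) ≤ iSup O := fun z _ => by
    obtain ⟨U', hU', y', hy'⟩ := A.cover ((j ≫ a.act).left.base z)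
    exact Opens.mem_iSup.2 ⟨⟨U', y', hy'⟩, hU'⟩
  obtain ⟨u, hu, -⟩ := TopCat.Sheaf.existsUnique_gluing' G.left.sheaf O ⊤ (fun i => homOfLE le_top) hcover f
    (fun i i' => eq_of_forall_vl G.hom fun s hs hs' => by
      let g : o ⟶ G := Over.homMk s hs
      refine huniq g _ _ ?_ ?_
      · convert hf i g (fun z => (hs' z).1) using 1
        exact vl_res s inf_le_left hs' (f i)
      · convert hf i' g (fun z => (hs' z).2) using 1
        exact vl_res s inf_le_right hs' (f i'))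
  have hR : ∀ g : o ⟶ G, R g (vl g.left ⊤ (fun _ => trivial) u) := fun g => by
    obtain ⟨U', hU', y', hy'⟩ := A.cover ((lift g x ≫ a.act).left.base (IsLocalRing.closedPoint k))
    have hg : ∀ z, g.left.base z ∈ O ⟨U', y', hy'⟩ := fun z => by
      show (g ≫ j ≫ a.act).left.base z ∈ U'
      rw [← Category.assoc, hj, Subsingleton.elim (α := Spec (CommRingCat.of k)) z (IsLocalRing.closedPoint k)]
      exact hU'
    rw [← vl_res g.left le_top hg u]
    erw [hu ⟨U', y', hy'⟩]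
    exact hf _ g hg
  have hvalue : ∀ s : Spec (CommRingCat.of k) ⟶ G.left,
      GrothLib.UnitProd.value u s = vl s ⊤ (fun _ => trivial) u := fun s => by
    simp [GrothLib.UnitProd.value, vl, Scheme.Hom.appTop, Scheme.Hom.app_eq_appLE]
  have hu_unit : IsUnit u := isUnit_of_forall_vl G.hom fun s hs hs' h0 => by
    let g : o ⟶ G := Over.homMk s hs
    obtain ⟨U', hU', y', hy'⟩ := A.cover ((lift g x ≫ a.act).left.base (IsLocalRing.closedPoint k))
    have hx' : ∀ z, (lift g x ≫ a.act).left.base z ∈ U' := fun z => by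
      rw [Subsingleton.elim (α := Spec (CommRingCat.of k)) z (IsLocalRing.closedPoint k)]; exact hU'
    have e := hR g U' y' hy' hx'
    rw [show vl g.left ⊤ _ u = 0 from h0, zero_mul] at e
    obtain ⟨c, hc⟩ := exists_factor a A hy hy' Φ₂ h₂ hl₂
    obtain ⟨w, hw, hyw⟩ := exists_coord_eq A hy x hx 0
    have e2 := hc g x w hw (hover Φ₂ h₂ g w hw) hx hx' (hgx hx')
    rw [hyw, mul_zero] at e2
    have heq := eq_of_coord A hy' (hP₂ g) (hover Φ₂ h₂ g w hw) hx' (e.trans e2.symm)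
    have := congrArg (fun v => lift g⁻¹ v ≫ Φ₂.act) heq
    simp only [P₂, ← GrothLib.DiagGrp.act_mul, inv_mul_cancel, GrothLib.DiagGrp.act_one] at this
    subst this
    rw [hy₁] at hyw
    exact one_ne_zero hyw
  have hone : GrothLib.UnitProd.value u (1 : o ⟶ G).left = 1 := by
    rw [hvalue]
    refine huniq 1 _ _ (hR 1) fun U' y' hy' hx' => ?_
    rw [_root_.one_mul]
    exact vl_congr (congrArg CommaMorphism.left (show P₂ 1 = P₁ 1 by
      simp only [P₁, P₂, GrothLib.DiagGrp.act_one])) _ _ y'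
  have hu1 := unit_eq_one hχ u hu_unit hone
  obtain ⟨U', hU', y', hy'⟩ := A.cover ((lift g₀ x ≫ a.act).left.base (IsLocalRing.closedPoint k))
  have hx' : ∀ z, (lift g₀ x ≫ a.act).left.base z ∈ U' := fun z => by
    rw [Subsingleton.elim (α := Spec (CommRingCat.of k)) z (IsLocalRing.closedPoint k)]; exact hU'
  have e := hR g₀ U' y' hy' hx'
  rw [hu1, map_one, _root_.one_mul] at e
  obtain ⟨c₁, hc₁⟩ := exists_factor a A hy hy' Φ₁ h₁ hl₁
  obtain ⟨c₂, hc₂⟩ := exists_factor a A hy hy' Φ₂ h₂ hl₂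
  rw [hc₁ g₀ x v₁ hv₁ (hP₁ g₀) hx hx' (hgx hx'), hc₂ g₀ x v₁ hv₁ (hP₂ g₀) hx hx' (hgx hx'), hy₁, _root_.mul_one, _root_.mul_one] at e
  refine eq_of_coord A hy' (hover Φ₁ h₁ g₀ v₀ hv₀) (hover Φ₂ h₂ g₀ v₀ hv₀) hx' ?_
  rw [hc₁ g₀ x v₀ hv₀ (hover Φ₁ h₁ g₀ v₀ hv₀) hx hx' (hgx hx'),
    hc₂ g₀ x v₀ hv₀ (hover Φ₂ h₂ g₀ v₀ hv₀) hx hx' (hgx hx'), e]

/-- A group without characters linearises a line bundle in at most one way. -/
theorem lift_eq [LocallyOfFiniteType G.hom] [QuasiCompact G.hom] [IsReduced G.left] [ConnectedSpace G.left]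
    [LocallyOfFiniteType X.hom] [IsReduced X.left]
    (hχ : ∀ (χ : G ⟶ Red.Gm (Spec (CommRingCat.of k))) [IsMonHom χ], χ = 1)
    (A : GLinSh.LinAtlas π) (Φ₁ Φ₂ : AlgGrp.Action G V) (h₁ : Φ₁.act ≫ π = (G ◁ π) ≫ a.act)
    (h₂ : Φ₂.act ≫ π = (G ◁ π) ≫ a.act) (hl₁ : GLinSh.IsLinearLift a π Φ₁ A.chart h₁)
    (hl₂ : GLinSh.IsLinearLift a π Φ₂ A.chart h₂) : Φ₁.act = Φ₂.act := by
  haveI := A.affine
  haveI := locallyOfFiniteType_bundle A
  haveI := isReduced_bundle A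
  haveI : LocallyOfFiniteType V.hom := by rw [← Over.w π]; infer_instance
  haveI : IsLocallyNoetherian V.left := LocallyOfFiniteType.isLocallyNoetherian V.hom
  haveI : GeometricallyReduced G.hom := GrothLib.UnitProd.geometricallyReduced_of_isReduced G.hom
  haveI : Flat G.hom := GrothLib.DiagGrp.flat_of_field _
  haveI : IsReduced (G ⊗ V).left := inferInstanceAs (IsReduced (pullback G.hom V.hom))
  haveI : LocallyOfFiniteType (G ⊗ V).hom := by dsimp; infer_instance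
  haveI : JacobsonSpace (G ⊗ V).left := LocallyOfFiniteType.jacobsonSpace (G ⊗ V).hom
  refine Over.OverMorphism.ext (ext_of_fromSpecResidueField_eq _ _ π.left (closedPoints (G ⊗ V).left) ?_ ?_
    (by rw [← Over.comp_left, ← Over.comp_left, h₁, h₂]))
  · rw [dense_iff_closure_eq, ← Set.univ_inter (closedPoints _),
      JacobsonSpace.closure_inter_closedPoints_eq_closure isOpen_univ.isLocallyClosed, closure_univ]
  intro z hz
  let t : o ⟶ G ⊗ V := Over.homMk (pointOfClosedPoint (G ⊗ V).hom z hz) (pointOfClosedPoint_comp _ z hz)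
  have e := lift_eq_on_points a hχ A Φ₁ Φ₂ h₁ h₂ hl₁ hl₂ (t ≫ fst G V) (t ≫ snd G V)
  rw [show lift (t ≫ fst G V) (t ≫ snd G V) = t by apply CartesianMonoidalCategory.hom_ext <;> simp] at e
  rw [← cancel_epi (Spec.map (residueFieldIsoBase (G ⊗ V).hom z hz).hom)]
  simpa [t, pointOfClosedPoint] using congrArg CommaMorphism.left e

end GrothLib.LinUniq27
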